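import Mathlib.LinearAlgebra.Projectivization.Basic
import Mathlib.LinearAlgebra.Dual.Lemmas
import Mathlib.Algebra.Module.Submodule.Union
import Mathlib.RingTheory.MvPolynomial.Homogeneous
import Mathlib.FieldTheory.IsAlgClosed.Basic

/-!
# Finite sets of points with the Cayley–Bacharach property
-/

universe u

set_option autoImplicit false

open MvPolynomial

namespace Groth.Agent.CBPoints15

variable {k : Type u} [Field k] {σ : Type} [Fintype σ]

/-- The Cayley–Bacharach property in degree `n`. -/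
def CB (Z : Finset (Projectivization k (σ → k))) (n : ℕ) : Prop :=
  ∀ z ∈ Z, ∀ p : MvPolynomial σ k, p.IsHomogeneous n →
    (∀ z' ∈ Z, z' ≠ z → eval z'.rep p = 0) → eval z.rep p = 0

/-- Hopf-type bound: two spaces of functions on a finite set whose products miss every delta. -/
theorem finrank_add_finrank_le [Infinite k] {ι : Type u} [Fintype ι] [DecidableEq ι]
    (U V W : Submodule k (ι → k)) (hmul : ∀ f ∈ V, ∀ g ∈ W, f * g ∈ U)
    (hδ : ∀ i, (Pi.single i (1 : k) : ι → k) ∉ U) :
    Module.finrank k V + Module.finrank k W ≤ Fintype.card ι := by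
  obtain ⟨l, hlU, hl⟩ := Module.Dual.exists_forall_mem_ne_zero_of_forall_exists U.dualAnnihilator
    (fun i => Module.Dual.eval k (ι → k) (Pi.single i 1)) fun i => by
      obtain ⟨f, hf, hfU⟩ := Submodule.exists_dual_map_eq_bot_of_notMem (hδ i) inferInstance
      exact ⟨f, (Submodule.mem_dualAnnihilator f).2 fun w hw =>
        (Submodule.mem_bot k).1 (hfU ▸ Submodule.mem_map_of_mem hw), hf⟩
  let ψ : (ι → k) →ₗ[k] Module.Dual k (ι → k) :=
    LinearMap.mk₂ k (fun g f => l (f * g)) (fun a b f => by rw [mul_add, map_add])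
      (fun c a f => by rw [Algebra.mul_smul_comm, map_smul]) (fun g a b => by rw [add_mul, map_add])
      (fun c g a => by rw [smul_mul_assoc, map_smul])
  have hψ : Function.Injective ψ := by
    rw [injective_iff_map_eq_zero]
    intro g hg
    funext i
    have h1 : l ((Pi.single i (1 : k) : ι → k) * g) = 0 := LinearMap.congr_fun hg _
    have h2 : (Pi.single i (1 : k) : ι → k) * g = g i • (Pi.single i (1 : k) : ι → k) := by
      funext j
      rcases eq_or_ne j i with rfl | hj
      · simp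
      · simp [Pi.single_eq_of_ne hj]
    rw [h2, map_smul, smul_eq_mul, mul_eq_zero] at h1
    exact h1.resolve_right (hl i)
  have hle : W.map ψ ≤ V.dualAnnihilator := by
    rintro _ ⟨g, hg, rfl⟩
    exact (Submodule.mem_dualAnnihilator _).2 fun f hf =>
      (Submodule.mem_dualAnnihilator l).1 hlU _ (hmul f hf g hg)
  have h1 := Submodule.finrank_mono hle
  rw [← (W.equivMapOfInjective ψ hψ).finrank_eq] at h1
  have h2 := Subspace.finrank_add_finrank_dualAnnihilator_eq V
  rw [Module.finrank_pi] at h2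
  omega

/-- The Cayley–Bacharach dimension inequality. -/
theorem exists_vanishing_or_finrank_le [Infinite k] (Z : Finset (Projectivization k (σ → k))) (n : ℕ)
    (hCB : CB Z n) (m : ℕ) (hm : m ≤ n) :
    (∃ s : MvPolynomial σ k, s.IsHomogeneous (n - m) ∧ s ≠ 0 ∧ ∀ z ∈ Z, eval z.rep s = 0) ∨
      Module.finrank k (LinearMap.range
          ((LinearMap.pi fun z : ↥Z => (aeval (R := k) z.1.rep).toLinearMap) ∘ₗ
            (homogeneousSubmodule σ k m).subtype)) +
        Module.finrank k ↥(homogeneousSubmodule σ k (n - m)) ≤ Z.card := by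
  classical
  by_cases hs : ∃ s : MvPolynomial σ k, s.IsHomogeneous (n - m) ∧ s ≠ 0 ∧ ∀ z ∈ Z, eval z.rep s = 0
  · exact Or.inl hs
  refine Or.inr ?_
  let ev : MvPolynomial σ k →ₗ[k] (↥Z → k) := LinearMap.pi fun z : ↥Z => (aeval (R := k) z.1.rep).toLinearMap
  have hev : ∀ p (z : ↥Z), ev p z = eval z.1.rep p := fun p z => by
    show aeval (R := k) z.1.rep p = eval z.1.rep p
    rw [← MvPolynomial.aeval_eq_eval]
  have hinj : Function.Injective (ev ∘ₗ (homogeneousSubmodule σ k (n - m)).subtype) := by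
    rw [injective_iff_map_eq_zero]
    intro s h
    by_contra hne
    refine hs ⟨s.1, (mem_homogeneousSubmodule _ _).1 s.2, fun h' => hne (Subtype.ext h'), fun z hz => ?_⟩
    rw [← hev s.1 ⟨z, hz⟩]
    exact congrFun h ⟨z, hz⟩
  have key := finrank_add_finrank_le (ι := ↥Z)
    (LinearMap.range (ev ∘ₗ (homogeneousSubmodule σ k n).subtype))
    (LinearMap.range (ev ∘ₗ (homogeneousSubmodule σ k m).subtype))
    (LinearMap.range (ev ∘ₗ (homogeneousSubmodule σ k (n - m)).subtype))
    (by
      rintro _ ⟨f, rfl⟩ _ ⟨g, rfl⟩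
      refine ⟨⟨f.1 * g.1, (mem_homogeneousSubmodule _ _).2 ?_⟩, ?_⟩
      · simpa [Nat.add_sub_cancel' hm] using
          ((mem_homogeneousSubmodule _ _).1 f.2).mul ((mem_homogeneousSubmodule _ _).1 g.2)
      · funext z
        show ev (f.1 * g.1) z = ev f.1 z * ev g.1 z
        rw [hev, hev, hev, map_mul])
    (fun i ⟨p, hp⟩ => by
      have hz := hCB i.1 i.2 p.1 ((mem_homogeneousSubmodule _ _).1 p.2) fun z' hz' hne => by
        rw [← hev p.1 ⟨z', hz'⟩]
        exact (congrFun hp ⟨z', hz'⟩).trans (Pi.single_eq_of_ne (fun h => hne (congrArg Subtype.val h)) _)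
      rw [← hev] at hz
      have h1 : (Pi.single i (1 : k) : ↥Z → k) i = 0 := (congrFun hp i).symm.trans hz
      rw [Pi.single_eq_same] at h1
      exact one_ne_zero h1)
  rw [LinearMap.finrank_range_of_inj hinj, Fintype.card_coe] at key
  exact key

/-- The linear form of a functional. -/
noncomputable def linForm (φ : Module.Dual k (σ → k)) : MvPolynomial σ k :=
  letI := Classical.decEq σ
  ∑ i, C (φ (Pi.single i 1)) * X i

theorem linForm_isHomogeneous (φ : Module.Dual k (σ → k)) : (linForm φ).IsHomogeneous 1 := by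
  classical
  exact MvPolynomial.IsHomogeneous.sum _ _ _ fun i _ => isHomogeneous_C_mul_X _ _

theorem eval_linForm (φ : Module.Dual k (σ → k)) (v : σ → k) : eval v (linForm φ) = φ v := by
  classical
  rw [linForm, map_sum]
  conv_rhs => rw [pi_eq_sum_univ v, map_sum]
  refine Finset.sum_congr rfl fun i _ => ?_
  rw [map_mul, eval_C, eval_X, map_smul, smul_eq_mul, mul_comm]
  congr 1
  refine congrArg φ (funext fun j => ?_)
  simp [Pi.single_apply, eq_comm]

theorem exists_form {W : Submodule k (σ → k)} {v : σ → k} (hv : v ∉ W) :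
    ∃ s : MvPolynomial σ k, s.IsHomogeneous 1 ∧ eval v s ≠ 0 ∧ ∀ w ∈ W, eval w s = 0 := by
  obtain ⟨f, hf, hW⟩ := Submodule.exists_dual_map_eq_bot_of_notMem hv inferInstance
  exact ⟨linForm f, linForm_isHomogeneous f, by rwa [eval_linForm], fun w hw => by
    rw [eval_linForm]; exact (Submodule.mem_bot k).1 (hW ▸ Submodule.mem_map_of_mem hw)⟩

theorem exists_form_ne_zero (z : Projectivization k (σ → k)) :
    ∃ s : MvPolynomial σ k, s.IsHomogeneous 1 ∧ eval z.rep s ≠ 0 := by
  obtain ⟨s, hs, hz, -⟩ := exists_form (W := ⊥) (v := z.rep) (fun h => z.rep_nonzero ((Submodule.mem_bot k).1 h))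
  exact ⟨s, hs, hz⟩

/-- A form of degree `d` through at most `d` given points avoiding a further one. -/
theorem exists_separating (z : Projectivization k (σ → k)) (S : Finset (Projectivization k (σ → k)))
    (hz : z ∉ S) (d : ℕ) (hd : S.card ≤ d) :
    ∃ p : MvPolynomial σ k, p.IsHomogeneous d ∧ eval z.rep p ≠ 0 ∧ ∀ w ∈ S, eval w.rep p = 0 := by
  classical
  have h : ∀ w ∈ S, ∃ s : MvPolynomial σ k, s.IsHomogeneous 1 ∧ eval z.rep s ≠ 0 ∧ eval w.rep s = 0 := by
    intro w hw
    obtain ⟨s, hs, hsz, hsw⟩ := exists_form (W := k ∙ w.rep) (v := z.rep) (fun h => by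
      obtain ⟨a, ha⟩ := Submodule.mem_span_singleton.1 h
      exact (LinearIndependent.pair_iff' w.rep_nonzero).1
        (Projectivization.linearIndependent_pair_iff_ne.2 (show w ≠ z from fun e => hz (e ▸ hw))) a ha)
    exact ⟨s, hs, hsz, hsw _ (Submodule.mem_span_singleton_self _)⟩
  choose! s hs hsz hsw using h
  obtain ⟨t, ht, htz⟩ := exists_form_ne_zero z
  refine ⟨(∏ w ∈ S, s w) * t ^ (d - S.card), ?_, ?_, fun w hw => ?_⟩
  · have h1 : (∏ w ∈ S, s w).IsHomogeneous (∑ _w ∈ S, 1) :=
      MvPolynomial.IsHomogeneous.prod _ _ _ fun w hw => hs w hw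
    have h2 := h1.mul (ht.pow (d - S.card))
    simpa [Nat.add_sub_cancel' hd] using h2
  · rw [map_mul, map_prod, map_pow]
    exact mul_ne_zero (Finset.prod_ne_zero_iff.2 fun w hw => hsz w hw) (pow_ne_zero _ htz)
  · rw [map_mul, map_prod]
    exact mul_eq_zero_of_left (Finset.prod_eq_zero hw (hsw w hw)) _

theorem card_ge {Z : Finset (Projectivization k (σ → k))} (hZ : Z.Nonempty) {n : ℕ} (hCB : CB Z n) :
    n + 2 ≤ Z.card := by
  classical
  by_contra hlt
  obtain ⟨z, hz⟩ := hZ
  obtain ⟨p, hp, hpz, hpS⟩ := exists_separating z (Z.erase z) (Finset.notMem_erase z Z) n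
    (by rw [Finset.card_erase_of_mem hz]; omega)
  exact hpz (hCB z hz p hp fun w hw hne => hpS w (Finset.mem_erase.2 ⟨hne, hw⟩))

/-- Few points with the Cayley–Bacharach property are collinear. -/
theorem collinear : ∀ (n : ℕ) (Z : Finset (Projectivization k (σ → k))), Z.Nonempty → CB Z n →
    Z.card ≤ 2 * n + 1 →
    ∃ W : Submodule k (σ → k), Module.finrank k ↥W = 2 ∧ ∀ z ∈ Z, z.rep ∈ W := by
  classical
  intro n
  induction n with
  | zero =>
    intro Z hne hCB hc
    have := card_ge hne hCB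
    omega
  | succ n ih =>
    intro Z hne hCB hc
    have hge := card_ge hne hCB
    obtain ⟨z1, hz1, z2, hz2, h12⟩ := Finset.one_lt_card.1 (by omega : 1 < Z.card)
    have hli := Projectivization.linearIndependent_pair_iff_ne.2 h12
    let W := Submodule.span k ({z1.rep, z2.rep} : Set (σ → k))
    have hW : Module.finrank k W = 2 := by
      have h := finrank_span_eq_card hli
      rw [Matrix.range_cons, Matrix.range_cons, Matrix.range_empty, Set.union_empty,
        Set.singleton_union, Fintype.card_fin] at h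
      exact h
    by_cases hall : ∀ z ∈ Z, z.rep ∈ W
    · exact ⟨W, hW, hall⟩
    push Not at hall
    obtain ⟨z3, hz3, hz3W⟩ := hall
    obtain ⟨ℓ, hℓ, hℓ3, hℓW⟩ := exists_form hz3W
    let Z' := Z.filter fun z => eval z.rep ℓ ≠ 0
    have hne' : Z'.Nonempty := ⟨z3, Finset.mem_filter.2 ⟨hz3, hℓ3⟩⟩
    have hCB' : CB Z' n := by
      intro z hz p hp hvan
      obtain ⟨hzZ, hzℓ⟩ := Finset.mem_filter.1 hz
      have h := hCB z hzZ (p * ℓ) (hp.mul hℓ) fun w hw hwne => by
        rw [map_mul]
        by_cases hwℓ : eval w.rep ℓ = 0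
        · rw [hwℓ, mul_zero]
        · rw [hvan w (Finset.mem_filter.2 ⟨hw, hwℓ⟩) hwne, zero_mul]
      rw [map_mul] at h
      exact (mul_eq_zero.1 h).resolve_right hzℓ
    have hcard' : Z'.card ≤ 2 * n + 1 := by
      have hsub : Z' ⊆ (Z.erase z1).erase z2 := fun z hz => by
        obtain ⟨hzZ, hzℓ⟩ := Finset.mem_filter.1 hz
        exact Finset.mem_erase.2 ⟨fun e => hzℓ (e ▸ hℓW _ (Submodule.subset_span (Or.inr rfl))),
          Finset.mem_erase.2 ⟨fun e => hzℓ (e ▸ hℓW _ (Submodule.subset_span (Or.inl rfl))), hzZ⟩⟩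
      have := Finset.card_le_card hsub
      rw [Finset.card_erase_of_mem (Finset.mem_erase.2 ⟨h12.symm, hz2⟩), Finset.card_erase_of_mem hz1] at this
      omega
    obtain ⟨W', hW', hZ'⟩ := ih Z' hne' hCB' hcard'
    have hge' := card_ge hne' hCB'
    refine ⟨W', hW', fun z hz => by_contra fun hzW => ?_⟩
    obtain ⟨ℓ', hℓ', hℓ'z, hℓ'W⟩ := exists_form hzW
    let S := (Z.filter fun w => w.rep ∉ W').erase z
    have hS : S.card ≤ n := by
      have h1 : Z' ⊆ Z.filter fun w => w.rep ∈ W' := fun w hw =>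
        Finset.mem_filter.2 ⟨(Finset.mem_filter.1 hw).1, hZ' w hw⟩
      have h2 := Finset.card_le_card h1
      have h3 := Finset.card_filter_add_card_filter_not (s := Z) (fun w : Projectivization k (σ → k) => w.rep ∈ W')
      rw [Finset.card_erase_of_mem (Finset.mem_filter.2 ⟨hz, hzW⟩)]
      omega
    obtain ⟨p, hp, hpz, hpS⟩ := exists_separating z S (Finset.notMem_erase _ _) n hS
    refine mul_ne_zero hpz hℓ'z ?_
    rw [← map_mul]
    refine hCB z hz (p * ℓ') (hp.mul hℓ') fun w hw hwne => ?_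
    rw [map_mul]
    by_cases hwW : w.rep ∈ W'
    · rw [hℓ'W _ hwW, mul_zero]
    · rw [hpS w (Finset.mem_erase.2 ⟨hwne, Finset.mem_filter.2 ⟨hw, hwW⟩⟩), zero_mul]

end Groth.Agent.CBPoints15
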