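import Groth.Agent.Lib.CBPoints15.Basic
import Mathlib.LinearAlgebra.FiniteDimensional.Lemmas

/-!
# Cayley–Bacharach sets of at most `3n+1` points in space
-/

universe u

set_option autoImplicit false

open MvPolynomial

namespace Groth.Agent.CBPoints15

variable {k : Type u} [Field k] {σ : Type} [Fintype σ]

/-- Removing the points of a linear subspace lowers the degree by one. -/
theorem cb_filter_notMem [DecidableEq (Projectivization k (σ → k))]
    {Z : Finset (Projectivization k (σ → k))} {n : ℕ} (hCB : CB Z (n + 1))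
    (W : Submodule k (σ → k)) [DecidablePred fun z : Projectivization k (σ → k) => z.rep ∉ W] :
    CB (Z.filter fun z => z.rep ∉ W) n := by
  intro z hz p hp hvan
  obtain ⟨hzZ, hzW⟩ := Finset.mem_filter.1 hz
  obtain ⟨ℓ, hℓ, hℓz, hℓW⟩ := exists_form hzW
  have h := hCB z hzZ (p * ℓ) (hp.mul hℓ) fun w hw hwne => by
    rw [map_mul]
    by_cases hwW : w.rep ∈ W
    · rw [hℓW _ hwW, mul_zero]
    · rw [hvan w (Finset.mem_filter.2 ⟨hw, hwW⟩) hwne, zero_mul]
  rw [map_mul] at h
  exact (mul_eq_zero.1 h).resolve_right hℓz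

/-- All points lie in a subspace of dimension at most three. -/
def Cop (Z : Finset (Projectivization k (σ → k))) : Prop :=
  ∃ W : Submodule k (σ → k), Module.finrank k ↥W ≤ 3 ∧ ∀ z ∈ Z, z.rep ∈ W

theorem cop_of_card_le {Z : Finset (Projectivization k (σ → k))} (h : Z.card ≤ 3) : Cop Z := by
  classical
  let T : Finset (σ → k) := Z.image (fun z : Projectivization k (σ → k) => z.rep)
  refine ⟨Submodule.span k (↑T : Set (σ → k)), ?_, fun z hz => ?_⟩
  · have h1 : Module.finrank k ↥(Submodule.span k (↑T : Set (σ → k))) ≤ T.card :=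
      finrank_span_finset_le_card T
    have h2 : T.card ≤ Z.card := Finset.card_image_le
    omega
  · exact Submodule.subset_span (Finset.mem_coe.2 (Finset.mem_image_of_mem _ hz))

/-- A line carrying points of a Cayley–Bacharach set split by two skew lines carries `n + 2` of them. -/
theorem card_line_ge {Z : Finset (Projectivization k (σ → k))} {n : ℕ} (hn : 1 ≤ n) (hCB : CB Z n)
    {L₁ L₂ : Submodule k (σ → k)} [DecidablePred fun z : Projectivization k (σ → k) => z.rep ∈ L₁]
    (hskew : L₁ ⊓ L₂ = ⊥) (hcov : ∀ z ∈ Z, z.rep ∈ L₁ ∨ z.rep ∈ L₂)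
    (hex : ∃ z ∈ Z, z.rep ∉ L₂) :
    n + 2 ≤ (Z.filter fun z => z.rep ∈ L₁).card := by
  classical
  obtain ⟨z, hz, hzL₂⟩ := hex
  have hzL₁ : z.rep ∈ L₁ := (hcov z hz).resolve_right hzL₂
  by_contra hlt
  let S := (Z.filter fun z => z.rep ∈ L₁).erase z
  have hS : S.card ≤ n := by
    show (((Z.filter fun z => z.rep ∈ L₁).erase z)).card ≤ n
    rw [Finset.card_erase_of_mem (Finset.mem_filter.2 ⟨hz, hzL₁⟩)]
    omega
  have h : ∀ w ∈ S, ∃ s : MvPolynomial σ k, s.IsHomogeneous 1 ∧ eval z.rep s ≠ 0 ∧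
      eval w.rep s = 0 ∧ ∀ v ∈ L₂, eval v s = 0 := by
    intro w hw
    obtain ⟨hwz, hw'⟩ := Finset.mem_erase.1 hw
    have hwL₁ := (Finset.mem_filter.1 hw').2
    obtain ⟨s, hs, hsz, hsw⟩ := exists_form (W := L₂ ⊔ k ∙ w.rep) (v := z.rep) (fun hmem => by
      obtain ⟨a, ha, b, hb, hab⟩ := Submodule.mem_sup.1 hmem
      obtain ⟨c, rfl⟩ := Submodule.mem_span_singleton.1 hb
      have ha₁ : a ∈ L₁ := by
        rw [eq_sub_of_add_eq hab]
        exact L₁.sub_mem hzL₁ (L₁.smul_mem c hwL₁)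
      have ha0 : a = 0 := (Submodule.mem_bot k).1 (hskew ▸ Submodule.mem_inf.2 ⟨ha₁, ha⟩)
      rw [ha0, zero_add] at hab
      exact (LinearIndependent.pair_iff' w.rep_nonzero).1
        (Projectivization.linearIndependent_pair_iff_ne.2 hwz) c hab)
    exact ⟨s, hs, hsz, hsw _ (Submodule.mem_sup_right (Submodule.mem_span_singleton_self _)),
      fun v hv => hsw v (Submodule.mem_sup_left hv)⟩
  choose! s hs hsz hsw hsL using h
  obtain ⟨t, ht, htz, htL⟩ := exists_form hzL₂
  have hp : ((∏ w ∈ S, s w) * t ^ (n - S.card)).IsHomogeneous n := by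
    have h1 : (∏ w ∈ S, s w).IsHomogeneous (∑ _w ∈ S, 1) :=
      MvPolynomial.IsHomogeneous.prod _ _ _ fun w hw => hs w hw
    simpa [Nat.add_sub_cancel' hS] using h1.mul (ht.pow (n - S.card))
  have h0 := hCB z hz _ hp fun w hw hwne => by
    rw [map_mul, map_prod, map_pow]
    by_cases hwL₁ : w.rep ∈ L₁
    · have hwS : w ∈ S := Finset.mem_erase.2 ⟨hwne, Finset.mem_filter.2 ⟨hw, hwL₁⟩⟩
      exact mul_eq_zero_of_left (Finset.prod_eq_zero hwS (hsw w hwS)) _
    · have hwL₂ := (hcov w hw).resolve_left hwL₁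
      rcases S.eq_empty_or_nonempty with hS0 | ⟨x, hx⟩
      · rw [hS0, Finset.card_empty, htL _ hwL₂, zero_pow (by omega), mul_zero]
      · exact mul_eq_zero_of_left (Finset.prod_eq_zero hx (hsL x hx _ hwL₂)) _
  rw [map_mul, map_prod, map_pow] at h0
  exact mul_ne_zero (Finset.prod_ne_zero_iff.2 fun w hw => hsz w hw) (pow_ne_zero _ htz) h0

/-- Non-coplanar sets with a line of `n + 1` points lie on two lines. -/
theorem exists_two_lines_of_line {Z : Finset (Projectivization k (σ → k))} {n : ℕ} (hn : 1 ≤ n)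
    (hCB : CB Z n) (hcard : Z.card ≤ 3 * n + 1) (hcop : ¬ Cop Z)
    {L : Submodule k (σ → k)} (hL : Module.finrank k ↥L = 2)
    [DecidablePred fun z : Projectivization k (σ → k) => z.rep ∈ L]
    (hLc : n + 1 ≤ (Z.filter fun z => z.rep ∈ L).card) :
    ∃ L₂ : Submodule k (σ → k), Module.finrank k ↥L₂ = 2 ∧ L ⊓ L₂ = ⊥ ∧
      ∀ z ∈ Z, z.rep ∈ L ∨ z.rep ∈ L₂ := by
  classical
  obtain ⟨m, rfl⟩ : ∃ m, n = m + 1 := ⟨n - 1, by omega⟩
  obtain ⟨q, hq, hqL⟩ : ∃ q ∈ Z, q.rep ∉ L := by
    by_contra hh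
    push Not at hh
    exact hcop ⟨L, by omega, hh⟩
  let H := L ⊔ k ∙ q.rep
  have hH : Module.finrank k ↥H ≤ 3 :=
    (Submodule.finrank_add_le_finrank_add_finrank _ _).trans (by rw [hL, finrank_span_singleton q.rep_nonzero])
  let Z' := Z.filter fun z => z.rep ∉ H
  have hne : Z'.Nonempty := by
    rw [Finset.filter_nonempty_iff]
    by_contra hh
    push Not at hh
    exact hcop ⟨H, hH, hh⟩
  have hCB' : CB Z' m := cb_filter_notMem hCB H
  have hsub : insert q (Z.filter fun z => z.rep ∈ L) ⊆ Z.filter fun z => z.rep ∈ H := by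
    intro z hz
    rcases Finset.mem_insert.1 hz with rfl | hz
    · exact Finset.mem_filter.2 ⟨hq, Submodule.mem_sup_right (Submodule.mem_span_singleton_self _)⟩
    · exact Finset.mem_filter.2 ⟨(Finset.mem_filter.1 hz).1, Submodule.mem_sup_left (Finset.mem_filter.1 hz).2⟩
  have hc1 := Finset.card_le_card hsub
  have hqn : q ∉ Z.filter fun z => z.rep ∈ L := fun h => hqL (Finset.mem_filter.1 h).2
  rw [Finset.card_insert_of_notMem hqn] at hc1
  have hc2 := Finset.card_filter_add_card_filter_not (s := Z) (fun z : Projectivization k (σ → k) => z.rep ∈ H)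
  have hge := card_ge hne hCB'
  obtain ⟨L₂, hL₂, hZ'⟩ := collinear m Z' hne hCB' (by change (Z.filter _).card ≤ _; omega)
  have hcov : ∀ z ∈ Z, z.rep ∈ L ∨ z.rep ∈ L₂ := by
    intro z hz
    by_contra hzL
    push Not at hzL
    let R := Z.filter fun z => z.rep ∉ L ∧ z.rep ∉ L₂
    have hd1 : Disjoint (Z.filter fun z => z.rep ∈ L) Z' :=
      Finset.disjoint_left.2 fun w h1 h2 => (Finset.mem_filter.1 h2).2
        (Submodule.mem_sup_left (Finset.mem_filter.1 h1).2)
    have hd2 : Disjoint ((Z.filter fun z => z.rep ∈ L) ∪ Z') R :=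
      Finset.disjoint_left.2 fun w h1 h2 => by
        rcases Finset.mem_union.1 h1 with h1 | h1
        · exact (Finset.mem_filter.1 h2).2.1 (Finset.mem_filter.1 h1).2
        · exact (Finset.mem_filter.1 h2).2.2 (hZ' w h1)
    have hc3 : ((Z.filter fun z => z.rep ∈ L) ∪ Z' ∪ R).card ≤ Z.card :=
      Finset.card_le_card (Finset.union_subset (Finset.union_subset (Finset.filter_subset _ _)
        (Finset.filter_subset _ _)) (Finset.filter_subset _ _))
    rw [Finset.card_union_of_disjoint hd2, Finset.card_union_of_disjoint hd1] at hc3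
    have hzR : z ∈ R := Finset.mem_filter.2 ⟨hz, hzL⟩
    have hR1 : 1 ≤ R.card := Finset.card_pos.2 ⟨z, hzR⟩
    obtain ⟨a, ha, haz, haL⟩ := exists_form hzL.1
    obtain ⟨b, hb, hbz, hbL⟩ := exists_form hzL.2
    obtain ⟨p, hp, hpz, hpS⟩ := exists_separating z (R.erase z) (Finset.notMem_erase _ _) (m - 1)
      (by rw [Finset.card_erase_of_mem hzR]; omega)
    have hdeg : ((p * a) * b).IsHomogeneous (m + 1) := by
      have := (hp.mul ha).mul hb
      rwa [show m - 1 + 1 + 1 = m + 1 by omega] at this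
    have h0 := hCB z hz _ hdeg fun w hw hwne => by
      rw [map_mul, map_mul]
      by_cases hwL : w.rep ∈ L
      · rw [haL _ hwL, mul_zero, zero_mul]
      by_cases hwL₂ : w.rep ∈ L₂
      · rw [hbL _ hwL₂, mul_zero]
      rw [hpS w (Finset.mem_erase.2 ⟨hwne, Finset.mem_filter.2 ⟨hw, hwL, hwL₂⟩⟩), zero_mul, zero_mul]
    rw [map_mul, map_mul] at h0
    exact mul_ne_zero (mul_ne_zero hpz haz) hbz h0
  refine ⟨L₂, hL₂, ?_, hcov⟩
  by_contra hne0
  have h1 := Submodule.finrank_sup_add_finrank_inf_eq L L₂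
  have h2 : 1 ≤ Module.finrank k ↥(L ⊓ L₂) :=
    Submodule.one_le_finrank_iff.2 hne0
  exact hcop ⟨L ⊔ L₂, by omega, fun z hz => (hcov z hz).elim Submodule.mem_sup_left Submodule.mem_sup_right⟩

/-- A non-coplanar Cayley–Bacharach set of at most `3n+1` points has a line with `n + 1` points. -/
theorem exists_line : ∀ (n : ℕ) (Z : Finset (Projectivization k (σ → k))), 1 ≤ n → CB Z n →
    Z.card ≤ 3 * n + 1 → ¬ Cop Z →
    ∃ (L : Submodule k (σ → k)) (T : Finset (Projectivization k (σ → k))),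
      Module.finrank k ↥L = 2 ∧ T ⊆ Z ∧ n + 1 ≤ T.card ∧ ∀ z ∈ T, z.rep ∈ L := by
  classical
  intro n
  induction n with
  | zero => omega
  | succ m ih =>
    intro Z hn hCB hcard hcop
    have hne : Z.Nonempty := Finset.nonempty_iff_ne_empty.2 fun h => hcop ⟨⊥, by simp, by simp [h]⟩
    have hge := card_ge hne hCB
    obtain ⟨Y, hY, hmax⟩ := (Z.powerset.filter fun Y => Cop Y).exists_max_image Finset.card
      ⟨∅, Finset.mem_filter.2 ⟨Finset.empty_mem_powerset _, cop_of_card_le (by simp)⟩⟩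
    obtain ⟨hYZ, W, hW, hYW⟩ := Finset.mem_filter.1 hY
    rw [Finset.mem_powerset] at hYZ
    obtain ⟨Y3, hY3, hY3c⟩ := Finset.exists_subset_card_eq (by omega : 3 ≤ Z.card)
    have h3 := hmax Y3 (Finset.mem_filter.2 ⟨Finset.mem_powerset.2 hY3, cop_of_card_le hY3c.le⟩)
    let Z' := Z.filter fun z => z.rep ∉ W
    have hne' : Z'.Nonempty := by
      rw [Finset.filter_nonempty_iff]
      by_contra hh
      push Not at hh
      exact hcop ⟨W, hW, hh⟩
    have hCB' : CB Z' m := cb_filter_notMem hCB W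
    have hdis : Disjoint Y Z' :=
      Finset.disjoint_left.2 fun w h1 h2 => (Finset.mem_filter.1 h2).2 (hYW w h1)
    have hc := Finset.card_le_card (Finset.union_subset hYZ (Finset.filter_subset _ _ : Z' ⊆ Z))
    rw [Finset.card_union_of_disjoint hdis] at hc
    have hge' := card_ge hne' hCB'
    by_cases hh : Z'.card ≤ 2 * m + 1
    · obtain ⟨L, hL, hLZ'⟩ := collinear m Z' hne' hCB' hh
      exact ⟨L, Z', hL, Finset.filter_subset _ _, by omega, hLZ'⟩
    · have hcop' : ¬ Cop Z' := fun h => by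
        have := hmax Z' (Finset.mem_filter.2 ⟨Finset.mem_powerset.2 (Finset.filter_subset _ _), h⟩)
        omega
      have hm : 1 ≤ m := by omega
      obtain ⟨L, T, hL, hT, hTc, hTL⟩ := ih Z' hm hCB' (by omega) hcop'
      obtain ⟨L₂, hL₂, hskew, hcov⟩ := exists_two_lines_of_line hm hCB' (by omega) hcop' hL
        (hTc.trans (Finset.card_le_card fun z hz => Finset.mem_filter.2 ⟨hT hz, hTL z hz⟩))
      have hex : ∃ z ∈ Z', z.rep ∉ L₂ := by
        by_contra h
        push Not at h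
        exact hcop' ⟨L₂, by omega, h⟩
      exact ⟨L, Z'.filter fun z => z.rep ∈ L, hL,
        (Finset.filter_subset _ _).trans (Finset.filter_subset _ _),
        by have := card_line_ge hm hCB' hskew hcov hex; omega, fun z hz => (Finset.mem_filter.1 hz).2⟩

end Groth.Agent.CBPoints15
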